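import Cfsg.Agent.H188.EP.RestPsp
import Cfsg.Agent.H352.EP.SpIso

/-!
# S4929, `Sp_{2m}(2)`: the cyclic case (helper781)

`psp2_cyc` : `d` the order of `2` modulo `p`, `m < d` or `m = d` odd: the Sylow `p`-subgroups are cyclic, `EvAt p`.
-/

set_option autoImplicit false

open Cfsg Cfsg.Agent.H892.EP Cfsg.Agent.H352.EP Matrix

namespace Cfsg.Agent.H781.EP

theorem lel_injective (n : ℕ) : Function.Injective (lel (n := n)) := by
  intro g h hgh
  apply Units.ext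
  apply Matrix.toLin'.injective
  refine LinearMap.ext fun a => ?_
  have h1 := lel_smul g (a, 0)
  rw [hgh, lel_smul] at h1
  exact (congrArg Prod.fst h1).symm

/-- `p ^ k ∣ |Sp_{2m}(2)|` implies `p ^ k ∣ 2 ^ m - 1` when `m` is odd and the order of `2` modulo `p` -/
theorem dvd_of_dvd_card {m p k : ℕ} [hp : Fact p.Prime] (hp2 : p ≠ 2) (hm : 1 ≤ m) (ho : Odd m)
    (hd : ∀ j, p ∣ 2 ^ j - 1 ↔ m ∣ j) {N : ℕ} (hN : N ∣ 2 ^ (m ^ 2) * ∏ i ∈ Finset.range m, (2 ^ (2 * (i + 1)) - 1))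
    (hk : p ^ k ∣ N) : p ^ k ∣ 2 ^ m - 1 := by
  have h2 : Nat.Coprime p 2 := (Nat.coprime_primes hp.out Nat.prime_two).2 hp2
  obtain ⟨n, rfl⟩ := Nat.exists_eq_add_of_le' hm
  have h1 := hk.trans hN
  rw [Finset.prod_range_succ] at h1
  have hc1 : Nat.Coprime (p ^ k) (2 ^ ((n + 1) ^ 2)) := Nat.Coprime.pow _ _ h2
  have h3 := hc1.dvd_of_dvd_mul_left h1
  have hc2 : Nat.Coprime (p ^ k) (∏ i ∈ Finset.range n, (2 ^ (2 * (i + 1)) - 1)) := by
    refine Nat.Coprime.pow_left _ (Nat.Coprime.prod_right fun i hi => ?_)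
    rw [Nat.Prime.coprime_iff_not_dvd hp.out, hd]
    intro hdv
    have h4 : (n + 1) ∣ i + 1 := (Nat.Coprime.dvd_mul_left (Nat.Coprime.symm (by
      rw [Nat.coprime_two_left]; exact ho))).1 hdv
    have h5 := Nat.le_of_dvd (Nat.succ_pos _) h4
    have h6 := Finset.mem_range.1 hi
    omega
  have h4 := hc2.dvd_of_dvd_mul_left h3
  have h5 : 2 ^ (2 * (n + 1)) - 1 = (2 ^ (n + 1) - 1) * (2 ^ (n + 1) + 1) := by
    have : 1 ≤ 2 ^ (n + 1) := Nat.one_le_two_pow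
    obtain ⟨t, ht⟩ := Nat.exists_eq_add_of_le' this
    rw [mul_comm 2 (n + 1), pow_mul, ht]
    have : (t + 1) ^ 2 = t * (t + 1 + 1) + 1 := by ring
    rw [this, Nat.add_sub_cancel, Nat.add_sub_cancel]
  rw [h5] at h4
  refine (Nat.Coprime.pow_left k ?_).dvd_of_dvd_mul_right h4
  rw [Nat.Prime.coprime_iff_not_dvd hp.out]
  intro h6
  have h7 : p ∣ 2 ^ (n + 1) - 1 := (hd _).2 dvd_rfl
  have h8 : p ∣ 2 := by
    have h9 := Nat.dvd_sub h6 h7
    have : 1 ≤ 2 ^ (n + 1) := Nat.one_le_two_pow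
    rwa [show 2 ^ (n + 1) + 1 - (2 ^ (n + 1) - 1) = 2 by omega] at h9
  exact hp2 ((Nat.prime_dvd_prime_iff_eq hp.out Nat.prime_two).1 h8)

/-- cyclic Sylow subgroups for `m = d` odd -/
theorem cyc_odd {m : ℕ} (hm : 2 ≤ m) {F : Type} [Field F] [Fintype F] (hF : Fintype.card F = 2) {p : ℕ}
    [hp : Fact p.Prime] (hp2 : p ≠ 2) (ho : Odd m) (hd : ∀ j, p ∣ 2 ^ j - 1 ↔ m ∣ j) (P : Sylow p (PSp m F)) :
    IsCyclic P := by
  have hfin : Finite (PSp m F) := Quotient.finite _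
  obtain ⟨e⟩ := nonempty_psp_equiv (m := m) hF (by omega)
  let φ : GL (Fin m) (ZMod 2) →* PSp m F := e.toMonoidHom.comp lel
  have hφ : Function.Injective φ := e.injective.comp (lel_injective m)
  obtain ⟨R⟩ : Nonempty (Sylow p (GL (Fin m) (ZMod 2))) := inferInstance
  have hR : IsCyclic R := Cfsg.Agent.H124.LinCyc.isCyclic_sylow_of_gl (F := ZMod 2) (ι := Fin m) hp2 (e := m) (by omega)
    (by rw [ZMod.card]; exact hd) (by rw [Fintype.card_fin]; omega) (MonoidHom.id _) Function.injective_id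
    (MonoidHom.id (GL (Fin m) (ZMod 2))) Function.surjective_id R
  have hcR : IsCyclic ((R : Subgroup (GL (Fin m) (ZMod 2))).map φ) :=
    isCyclic_of_surjective (φ.subgroupMap (R : Subgroup _)) (φ.subgroupMap_surjective _)
  have hcard : Nat.card ((R : Subgroup (GL (Fin m) (ZMod 2))).map φ) = Nat.card R :=
    (Nat.card_congr (Subgroup.equivMapOfInjective _ φ hφ).toEquiv).symm
  obtain ⟨Q, hQ⟩ := (R.isPGroup'.map φ).exists_le_sylow
  -- the orders agree
  have h1 : Nat.card Q ∣ Nat.card R := by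
    rw [Q.card_eq_multiplicity, R.card_eq_multiplicity, Nat.pow_dvd_pow_iff_le_right hp.out.one_lt,
      ← hp.out.pow_dvd_iff_le_factorization (Nat.card_pos.ne')]
    have h2 : Nat.card (PSp m F) ∣ 2 ^ (m ^ 2) * ∏ i ∈ Finset.range m, (2 ^ (2 * (i + 1)) - 1) := by
      have h3 := LieClassical.SympCount.card_symplecticGroup (F := F) m
      rw [hF] at h3
      rw [← h3]
      exact Subgroup.card_quotient_dvd_card _
    refine (dvd_of_dvd_card hp2 (by omega) ho hd h2 (Nat.ordProj_dvd _ _)).trans ?_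
    rw [Matrix.card_GL_field, ZMod.card]
    have h3 := Finset.dvd_prod_of_mem (fun i : Fin m => 2 ^ m - 2 ^ (i : ℕ)) (Finset.mem_univ (⟨0, by omega⟩ : Fin m))
    simpa using h3
  have h2 : (R : Subgroup (GL (Fin m) (ZMod 2))).map φ = Q := by
    refine Subgroup.eq_of_le_of_card_ge hQ ?_
    rw [hcard]
    exact Nat.le_of_dvd Nat.card_pos h1
  have hcQ : IsCyclic Q := by
    have h3 := hcR
    rw [h2] at h3
    exact h3
  exact isCyclic_of_surjective (Q.equiv P).toMonoidHom (Q.equiv P).surjective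

/-- **The cyclic case of `row_psp2`.** -/
theorem psp2_cyc {m : ℕ} (hm : 2 ≤ m) {F : Type} [Field F] [Fintype F] (hF : Fintype.card F = 2) {p : ℕ}
    [hp : Fact p.Prime] (hp2 : p ≠ 2) {d : ℕ} (hd : ∀ j, p ∣ 2 ^ j - 1 ↔ d ∣ j) (h : m < d ∨ (m = d ∧ Odd d))
    (hdiv : p ∣ Nat.card (PSp m F)) : EvAt p (PSp m F) := by
  have h2 : Fact (Nat.Prime 2) := ⟨Nat.prime_two⟩
  have hc : CharP F 2 := charP_of_card_eq_prime hF
  rcases h with h | ⟨rfl, ho⟩
  · refine Cfsg.Agent.H188.EP.rest_psp (r := 2) hp2 hp2 hm hdiv fun i h0 hi hdv => ?_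
    rw [hF, hd] at hdv
    have := Nat.le_of_dvd h0 hdv
    omega
  · have hfin : Finite (PSp m F) := Quotient.finite _
    obtain ⟨z, hz⟩ := exists_prime_orderOf_dvd_card' p hdiv
    exact evAt_of_real_cyclic hp2 (fun P => cyc_odd hm hF hp2 ho hd P) hz
      (Cfsg.Agent.H188.EP.real_psp (r := 2) hp.out hp2 hp2 z hz)

end Cfsg.Agent.H781.EP
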