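import Cfsg.Agent.H117.EP.ModelPSL
import Cfsg.Agent.H220.EP.ASeven
import Cfsg.Agent.H104.EP.U42
import Cfsg.Agent.H419.EP.Soc
import Cfsg.Agent.H419.EP.Targets
import Cfsg.Agent.H277.ClsPsu
import Cfsg.Agent.H845.AutUFour
import Cfsg.Agent.H900.SU4.Base
import Cfsg.Agent.S5785

/-!
# S3499, task 5965: the row S5785 (`U₄(q)`, residual class) (helper781)

* `card_eq` : two models of the same matrix group have isomorphic quotients;
* `row` : no residual stabiliser in `U₄(q)`, `q ≠ 3`, from the index bound for `U₄(2)`.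
-/

set_option autoImplicit false

namespace Cfsg.Agent.H781.EP

open Subgroup Cfsg Cfsg.Agent.H284 Cfsg.Agent.H419.EP
open scoped MatrixGroups

/-- two models of the same matrix group have isomorphic quotients -/
theorem nonempty_equiv {ι : Type} [Fintype ι] [DecidableEq ι] {F : Type*} [Field F] {S : Subgroup (GL ι F)}
    {Q : Type*} [Group Q] {Q' : Type*} [Group Q'] (m : Model Q S) (m' : Model Q' S) : Nonempty (Q ≃* Q') := by
  have hker : m.π.ker = m'.π.ker := by
    ext s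
    rw [MonoidHom.mem_ker, MonoidHom.mem_ker, m.ker, m'.ker]
  exact ⟨((QuotientGroup.quotientKerEquivOfSurjective m.π m.surj).symm.trans
    (QuotientGroup.quotientMulEquivOfEq hker)).trans (QuotientGroup.quotientKerEquivOfSurjective m'.π m'.surj)⟩

theorem card_eq {ι : Type} [Fintype ι] [DecidableEq ι] {F : Type*} [Field F] {S : Subgroup (GL ι F)}
    {Q : Type*} [Group Q] {Q' : Type*} [Group Q'] (m : Model Q S) (m' : Model Q' S) : Nat.card Q = Nat.card Q' := by
  obtain ⟨e⟩ := nonempty_equiv m m'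
  exact Nat.card_congr e.toEquiv

/-- the order of `U₄(q)` -/
theorem card_psu_four {F : Type*} [Field F] [Fintype F] {q : ℕ} (hF : Fintype.card F = q ^ 2) :
    Nat.gcd 4 (q + 1) * Nat.card (PSU 4 F q) = q ^ 6 * ((q ^ 2 - 1) * (q ^ 3 + 1) * (q ^ 4 - 1)) := by
  rw [H277.ClsPsu.card_psu hF (by norm_num)]
  simp [Finset.prod_range_succ, Nat.even_iff]

/-- `U₄(q)` has order at least `2 * 14742000000 / 4` for `q ≥ 5`, and this without the factor `4` for `q = 5`. -/
theorem card_Q_bound {F : Type*} [Field F] [Fintype F] {q : ℕ} (hF : Fintype.card F = q ^ 2) (hq : 5 ≤ q)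
    (hq6 : q ≠ 6) : 14742000000 ≤ Nat.card (PSU 4 F q) := by
  have h := card_psu_four hF
  rcases eq_or_lt_of_le hq with h5 | h5
  · subst h5
    norm_num at h
    omega
  · have h7 : 7 ≤ q := by omega
    have h1 : Nat.gcd 4 (q + 1) ≤ 4 := Nat.gcd_le_left _ (by norm_num)
    have h2 : 7 ^ 6 * ((7 ^ 2 - 1) * (7 ^ 3 + 1) * (7 ^ 4 - 1)) ≤ q ^ 6 * ((q ^ 2 - 1) * (q ^ 3 + 1) * (q ^ 4 - 1)) := by
      gcongr
    rw [← h] at h2
    have h3 : Nat.gcd 4 (q + 1) * Nat.card (PSU 4 F q) ≤ 4 * Nat.card (PSU 4 F q) := Nat.mul_le_mul_right _ h1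
    norm_num at h2
    omega

/-- **Row S5785.** No residual stabiliser in `U₄(q)`, `q ≠ 3`, from the index bound for the socle `U₄(2)` (for `A₇`: helper220). -/
theorem row_of {Q : Type} [Group Q] [Finite Q]
    (hU4 : ∀ {A : Subgroup Q} {Γ : Subgroup (MulAut Q)}, EPT A Γ → ∀ {K : Type} [Field K] [Fintype K],
      Fintype.card K = 4 → HasSoc A (PSU 4 K 2) → A.index ≤ 2 ^ 18)
    {A : Subgroup Q} {Γ : Subgroup (MulAut Q)} (h : EPT A Γ) {F : Type*} [Field F] [Fintype F] {q : ℕ}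
    (m : Model Q (Cfsg.GU 4 F q ⊓ Cfsg.Geo.specialLinear (Fin 4) F)) (hF : Fintype.card F = q ^ 2) (hq3 : q ≠ 3)
    (hres : Cfsg.Geo.InUnitaryResidualClass (m.hat A)) : False := by
  obtain ⟨m'⟩ := H117.EP.model_PSU (F := F) (n := 4) hF (by norm_num)
  have hQ : Nat.card Q = Nat.card (PSU 4 F q) := card_eq m m'
  have hi : A.index * Nat.card A = Nat.card (PSU 4 F q) := by rw [← hQ, mul_comm]; exact A.card_mul_index
  obtain ⟨P, hP, hqp, ⟨⟨e⟩, hq⟩ | ⟨-, hq⟩ | ⟨⟨K, _, _, hK, ⟨e⟩⟩, hq⟩⟩ :=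
    Cfsg.Agent.S5785.result q hF (m.hat A) (m.isMaximalIn h.max) hres
  · have hs := (hasSoc_of_core m hP).congr e
    have h1 := H220.EP.index_le_seven h hs
    have h2 : Nat.card A ≤ 5040 := hs.card_le.trans (Nat.le_of_dvd (by norm_num) H900.SU4.card_mulAut_alt_seven)
    have h3 : 5 ≤ q := by
      have h2 := hqp.two_le
      have h4 : q ≠ 4 := by rintro rfl; norm_num at hqp
      omega
    have h6 : q ≠ 6 := by rintro rfl; norm_num at hqp
    have h4 := card_Q_bound hF h3 h6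
    have h5 : A.index * Nat.card A ≤ 51984 * 5040 := Nat.mul_le_mul h1 h2
    omega
  · exact hq3 hq
  · have hs := (hasSoc_of_core m hP).congr e
    have h1 := hU4 h hK hs
    have h2 : Nat.card A ≤ 51840 := by
      refine hs.card_le.trans ?_
      rw [H845.AutUFour.card_mulAut_PSU hK, H900.SU4.card_psu_four hK]
    have h3 : 5 ≤ q := by omega
    have h6 : q ≠ 6 := by rintro rfl; norm_num at hqp
    have h4 := card_Q_bound hF h3 h6
    have h5 : A.index * Nat.card A ≤ 2 ^ 18 * 51840 := Nat.mul_le_mul h1 h2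
    omega

/-- **Row S5785.** No residual stabiliser in `U₄(q)`, `q ≠ 3`. -/
theorem row {Q : Type} [Group Q] [Finite Q]
    {A : Subgroup Q} {Γ : Subgroup (MulAut Q)} (h : EPT A Γ) {F : Type*} [Field F] [Fintype F] {q : ℕ}
    (m : Model Q (Cfsg.GU 4 F q ⊓ Cfsg.Geo.specialLinear (Fin 4) F)) (hF : Fintype.card F = q ^ 2) (hq3 : q ≠ 3)
    (hres : Cfsg.Geo.InUnitaryResidualClass (m.hat A)) : False :=
  row_of (fun h _ _ _ hK hs => H104.EP.index_le_u42 h hK hs) h m hF hq3 hres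

end Cfsg.Agent.H781.EP
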